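import Cfsg.Agent.KleinFourBlock.Setup

/-!
# Counting pairs of involutions with product of even order
-/

set_option autoImplicit false
set_option linter.style.haveILetI false

namespace CfsgLib.KleinFourBlock

open Cfsg CfsgLib.Blocks

universe u

variable {G : Type u} [Group G] [Finite G]

/-- The conjugates of `a` under the centraliser of `t`. -/
def cls (t a : G) : Set G := {v | ∃ c : G, Commute t c ∧ c * a * c⁻¹ = v}

theorem exists_conj_sylow {P : Sylow 2 G} (hP : IsKleinFour (P : Subgroup G)) {t a : G}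
    (ht : t ∈ (P : Subgroup G)) (ha : orderOf a = 2) (hta : Commute t a) :
    ∃ c : G, Commute t c ∧ c * a * c⁻¹ ∈ (P : Subgroup G) := by
  haveI : Fact (Nat.Prime 2) := ⟨Nat.prime_two⟩
  set C := Subgroup.centralizer ({t} : Set G) with hC
  have haC : a ∈ C := Subgroup.mem_centralizer_singleton_iff.2 hta.eq.symm
  have htp : IsPGroup 2 (Subgroup.zpowers (⟨a, haC⟩ : C)) :=
    IsPGroup.of_card (n := 1) (by rw [Nat.card_zpowers, Subgroup.orderOf_mk, ha, pow_one])
  obtain ⟨Q, hQ⟩ := htp.exists_le_sylow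
  obtain ⟨c, hc⟩ := MulAction.exists_smul_eq C Q (P.subtype (le_centralizer hP ht))
  refine ⟨(c : G), Commute.symm (Subgroup.mem_centralizer_singleton_iff.1 c.2), ?_⟩
  have hmem : c * ⟨a, haC⟩ * c⁻¹ ∈ ((c • Q : Sylow 2 C) : Subgroup C) :=
    ⟨⟨a, haC⟩, hQ (Subgroup.mem_zpowers _), rfl⟩
  rw [hc, Sylow.coe_subtype, Subgroup.mem_subgroupOf] at hmem
  exact hmem

theorem eq_of_mem_sylow {P : Sylow 2 G} (hP : IsKleinFour (P : Subgroup G)) {t w : G}
    (ht : t ∈ (P : Subgroup G)) (hw : w ∈ (P : Subgroup G)) (ht1 : t ≠ 1) (hw1 : w ≠ 1)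
    (htw : t ≠ w) {x : G} (hx : x ∈ (P : Subgroup G)) :
    x = 1 ∨ x = t ∨ x = w ∨ x = t * w := by
  classical
  haveI := hP
  by_contra hne
  simp only [not_or] at hne
  obtain ⟨hx1, hxt, hxw, hxtw⟩ := hne
  have htw1 : t * w ≠ 1 := fun h => htw
    (mul_left_cancel ((sq_eq_one_of_mem hP ht).trans h.symm))
  have htwt : t * w ≠ t := fun h => hw1 (mul_eq_left.1 h)
  have htww : t * w ≠ w := fun h => ht1 (mul_eq_right.1 h)
  have h5 : ({1, t, w, t * w, x} : Finset G).card ≤ 4 := by
    rw [← hP.card_four, ← Nat.card_eq_finsetCard]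
    refine Nat.card_le_card_of_injective (fun y => (⟨y.1, ?_⟩ : (P : Subgroup G)))
      fun y y' h => Subtype.ext (congrArg Subtype.val h :)
    have := y.2
    simp only [Finset.mem_insert, Finset.mem_singleton] at this
    rcases this with h | h | h | h | h <;> rw [h]
    exacts [one_mem _, ht, hw, mul_mem ht hw, hx]
  rw [Finset.card_insert_of_notMem (by simp [ht1.symm, hw1.symm, htw1.symm, Ne.symm hx1]),
    Finset.card_insert_of_notMem (by simp [htw, htwt.symm, Ne.symm hxt]),
    Finset.card_insert_of_notMem (by simp [htww.symm, Ne.symm hxw]),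
    Finset.card_insert_of_notMem (by simp [Ne.symm hxtw]), Finset.card_singleton] at h5
  omega

/-- An element of the odd core times a square-trivial element of a Klein four Sylow subgroup. -/
theorem quotient_facts {P : Sylow 2 G} (hP : IsKleinFour (P : Subgroup G)) {t : G}
    (ht : t ∈ (P : Subgroup G)) (ht1 : t ≠ 1) :
    (∀ a b : Subgroup.centralizer ({t} : Set G) ⧸ pPrimeCore 2 (Subgroup.centralizer ({t} : Set G)),
      a * b = b * a) ∧
    (∀ x : Subgroup.centralizer ({t} : Set G),
      x ∈ pPrimeCore 2 (Subgroup.centralizer ({t} : Set G)) → ¬ 2 ∣ orderOf x) := by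
  haveI : Fact (Nat.Prime 2) := ⟨Nat.prime_two⟩
  constructor
  · intro a b
    have h4 := index_pPrimeCore_dvd_four P hP ht ht1
    rw [Subgroup.index_eq_card] at h4
    obtain ⟨k, hk, hk'⟩ := (Nat.dvd_prime_pow Nat.prime_two).1
      (h4.trans (dvd_of_eq (by norm_num : (4 : ℕ) = 2 ^ 2)))
    interval_cases k
    · haveI := (Nat.card_eq_one_iff_unique.1 (hk'.trans (pow_zero 2))).1
      exact Subsingleton.elim _ _
    · haveI := isCyclic_of_prime_card (p := 2) (hk'.trans (pow_one 2))
      letI := IsCyclic.commGroup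
        (α := Subgroup.centralizer ({t} : Set G) ⧸ pPrimeCore 2 (Subgroup.centralizer ({t} : Set G)))
      exact mul_comm a b
    · exact (IsPGroup.isMulCommutative_of_card_eq_prime_sq hk').is_comm.comm a b
  · intro x hx h
    exact Constrained.pPrimeCore_not_dvd (h.trans (Subgroup.orderOf_dvd_natCard _ hx))

/-- Two involutions in one class under `C(t)` have a product of odd order. -/
theorem not_two_dvd_of_mem_cls {P : Sylow 2 G} (hP : IsKleinFour (P : Subgroup G)) {t a v : G}
    (ht : orderOf t = 2) (ha : orderOf a = 2) (hta : Commute t a) (hv : v ∈ cls t a) :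
    ¬ 2 ∣ orderOf (a * v) := by
  obtain ⟨U, hU, htU⟩ := exists_sylow_mem hP ⟨1, by rw [ht, pow_one]⟩
  obtain ⟨hcomm, hodd⟩ := quotient_facts hU htU fun h => by rw [h, orderOf_one] at ht; omega
  obtain ⟨c, hc, rfl⟩ := hv
  let A : Subgroup.centralizer ({t} : Set G) :=
    ⟨a, Subgroup.mem_centralizer_singleton_iff.2 hta.eq.symm⟩
  let C : Subgroup.centralizer ({t} : Set G) :=
    ⟨c, Subgroup.mem_centralizer_singleton_iff.2 hc.eq.symm⟩
  have h : A * (C * A * C⁻¹) ∈ pPrimeCore 2 (Subgroup.centralizer ({t} : Set G)) := by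
    rw [← QuotientGroup.eq_one_iff]
    show QuotientGroup.mk' _ (A * (C * A * C⁻¹)) = 1
    have hA : QuotientGroup.mk' (pPrimeCore 2 (Subgroup.centralizer ({t} : Set G))) A *
        QuotientGroup.mk' _ A = 1 := by
      rw [← map_mul, show A * A = 1 from Subtype.ext (by
        show a * a = 1
        rw [← pow_two, ← ha, pow_orderOf_eq_one]), map_one]
    rw [map_mul, map_mul, map_mul, map_inv, hcomm (QuotientGroup.mk' _ C), mul_inv_cancel_right, hA]
  have h2 := hodd _ h
  rwa [← Subgroup.orderOf_coe] at h2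

theorem orderOf_eq_two_of_cls {t a v : G} (ha : orderOf a = 2) (hv : v ∈ cls t a) :
    orderOf v = 2 := by
  obtain ⟨c, -, rfl⟩ := hv
  exact (orderOf_injective (MulAut.conj c).toMonoidHom (MulAut.conj c).injective a).trans ha

/-- The two classes of involutions other than `t` in `C(t)`. -/
theorem mem_cls_or {P : Sylow 2 G} (hP : IsKleinFour (P : Subgroup G)) {t a v : G}
    (ht : orderOf t = 2) (ha : orderOf a = 2) (hta : Commute t a) (hat : a ≠ t)
    (hv : orderOf v = 2) (htv : Commute t v) (hvt : v ≠ t) :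
    v ∈ cls t a ∨ v ∈ cls t (t * a) := by
  obtain ⟨U, hU, htU⟩ := exists_sylow_mem hP ⟨1, by rw [ht, pow_one]⟩
  have ht1 : t ≠ 1 := fun h => by rw [h, orderOf_one] at ht; omega
  obtain ⟨d, hd, hdU⟩ := exists_conj_sylow hU htU ha hta
  obtain ⟨c, hc, hcU⟩ := exists_conj_sylow hU htU hv htv
  have hfix : ∀ e : G, Commute t e → ∀ x : G, e * x * e⁻¹ = t → x = t := fun e he x h => by
    rw [mul_inv_eq_iff_eq_mul] at h
    rw [he.eq] at h
    exact mul_left_cancel h
  have hne1 : ∀ e x : G, orderOf x = 2 → e * x * e⁻¹ ≠ 1 := fun e x hx h => by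
    rw [conj_eq_one_iff.1 h, orderOf_one] at hx; omega
  have hdt : t * (d * a * d⁻¹) = d * (t * a) * d⁻¹ := by
    rw [← mul_assoc, ← mul_assoc, hd.eq, mul_assoc d t a]
  rcases eq_of_mem_sylow hU htU hdU ht1 (hne1 d a ha) (fun h => hat (hfix d hd a h.symm)) hcU with
    h | h | h | h
  · exact absurd h (hne1 c v hv)
  · exact absurd (hfix c hc v h) hvt
  · refine Or.inl ⟨c⁻¹ * d, (hc.inv_right).mul_right hd, ?_⟩
    calc c⁻¹ * d * a * (c⁻¹ * d)⁻¹ = c⁻¹ * (d * a * d⁻¹) * c := by group
      _ = v := by rw [← h]; group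
  · refine Or.inr ⟨c⁻¹ * d, (hc.inv_right).mul_right hd, ?_⟩
    rw [hdt] at h
    calc c⁻¹ * d * (t * a) * (c⁻¹ * d)⁻¹ = c⁻¹ * (d * (t * a) * d⁻¹) * c := by group
      _ = v := by rw [← h]; group

theorem mul_orderOf_two {t a : G} (ht : orderOf t = 2) (ha : orderOf a = 2) (hta : Commute t a)
    (hat : a ≠ t) : orderOf (t * a) = 2 ∧ Commute t (t * a) ∧ t * a ≠ t := by
  refine ⟨orderOf_eq_prime ?_ ?_, (Commute.refl t).mul_right hta, ?_⟩
  · rw [hta.mul_pow, ← ht, pow_orderOf_eq_one, ht, ← ha, pow_orderOf_eq_one, one_mul]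
  · intro h
    refine hat (mul_left_cancel (h.trans ?_).symm).symm
    rw [← pow_two, ← ht, pow_orderOf_eq_one]
  · intro h
    rw [mul_eq_left.1 h, orderOf_one] at ha
    omega

/-- The size of a class inside the centraliser of an involution. -/
theorem card_cls {P : Sylow 2 G} (hP : IsKleinFour (P : Subgroup G))
    (hone : ∀ s t : G, orderOf s = 2 → orderOf t = 2 → IsConj s t) {J t a : G} (hJ : orderOf J = 2)
    (ht : orderOf t = 2) (ha : orderOf a = 2) (hta : Commute t a) (hat : a ≠ t) :
    Nat.card (cls t a) * Nat.card (Subgroup.centralizer ((P : Subgroup G) : Set G)) =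
      Nat.card (Subgroup.centralizer ({J} : Set G)) := by
  classical
  set C := Subgroup.centralizer ({t} : Set G) with hC
  set S := (Subgroup.centralizer ({a} : Set G)).subgroupOf C with hS
  have hmC : ∀ c : C, Commute t (c : G) := fun c =>
    Commute.symm (Subgroup.mem_centralizer_singleton_iff.1 c.2)
  let f : C ⧸ S → cls t a := Quotient.lift
    (fun c : C => (⟨(c : G) * a * (c : G)⁻¹, c, hmC c, rfl⟩ : cls t a)) fun c d h => by
      have h' := QuotientGroup.leftRel_apply.1 h
      rw [hS, Subgroup.mem_subgroupOf, Subgroup.mem_centralizer_singleton_iff] at h'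
      apply Subtype.ext
      show (c : G) * a * (c : G)⁻¹ = (d : G) * a * (d : G)⁻¹
      simp only [Subgroup.coe_mul, Subgroup.coe_inv] at h'
      calc (c : G) * a * (c : G)⁻¹
          = (c : G) * (a * ((c : G)⁻¹ * d)) * (d : G)⁻¹ := by group
        _ = (c : G) * ((c : G)⁻¹ * d * a) * (d : G)⁻¹ := by rw [h']
        _ = (d : G) * a * (d : G)⁻¹ := by group
  have hf : Function.Bijective f := by
    constructor
    · rintro ⟨c⟩ ⟨d⟩ h
      refine Quotient.sound (QuotientGroup.leftRel_apply.2 ?_)
      rw [hS, Subgroup.mem_subgroupOf, Subgroup.mem_centralizer_singleton_iff]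
      have h' : (c : G) * a * (c : G)⁻¹ = (d : G) * a * (d : G)⁻¹ := congrArg Subtype.val h
      simp only [Subgroup.coe_mul, Subgroup.coe_inv]
      calc (c : G)⁻¹ * d * a = (c : G)⁻¹ * ((d : G) * a * (d : G)⁻¹) * d := by group
        _ = a * ((c : G)⁻¹ * d) := by rw [← h']; group
    · rintro ⟨v, c, hc, rfl⟩
      exact ⟨QuotientGroup.mk ⟨c, Subgroup.mem_centralizer_singleton_iff.2 hc.eq.symm⟩, rfl⟩
  have hcardC : Nat.card C = Nat.card (Subgroup.centralizer ({J} : Set G)) := by
    obtain ⟨g, hg⟩ := isConj_iff.1 (hone J t hJ ht)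
    refine Nat.card_congr ((MulAut.conj g).toEquiv.subtypeEquiv fun x => ?_).symm
    rw [hC, ← hg, Subgroup.mem_centralizer_singleton_iff, Subgroup.mem_centralizer_singleton_iff]
    exact (Commute.conj_iff g).symm
  have hcardS : Nat.card S = Nat.card (Subgroup.centralizer ((P : Subgroup G) : Set G)) := by
    -- both involutions can be moved into the given Sylow subgroup
    obtain ⟨U, hU, htU⟩ := exists_sylow_mem hP ⟨1, by rw [ht, pow_one]⟩
    obtain ⟨c, hc, hcU⟩ := exists_conj_sylow hU htU ha hta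
    obtain ⟨-, g, hg⟩ := exists_sylow_conj hP U
    set t' := g * t * g⁻¹ with ht'
    set a' := g * (c * a * c⁻¹) * g⁻¹ with ha'
    have ht1 : t' ≠ 1 := fun h => by rw [conj_eq_one_iff.1 h, orderOf_one] at ht; omega
    have ha1 : a' ≠ 1 := fun h => by
      rw [conj_eq_one_iff.1 (conj_eq_one_iff.1 h), orderOf_one] at ha; omega
    have hta' : t' ≠ a' := fun h => hat (by
      have h' : t = c * a * c⁻¹ := mul_left_cancel (mul_right_cancel h)
      have h'' : t * c = c * a := by rw [h']; group
      rw [hc.eq] at h''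
      exact (mul_left_cancel h'').symm)
    refine Nat.card_congr ?_
    refine
      { toFun := fun s => ⟨g * c * ((s : C) : G) * (g * c)⁻¹, ?_⟩
        invFun := fun x => ⟨⟨(g * c)⁻¹ * (x : G) * (g * c), ?_⟩, ?_⟩
        left_inv := fun s => by apply Subtype.ext; apply Subtype.ext; simp [mul_assoc]
        right_inv := fun x => by apply Subtype.ext; simp [mul_assoc] }
    · rw [Subgroup.mem_centralizer_iff]
      intro x hx
      have hs1 := Subgroup.mem_centralizer_singleton_iff.1 (s : C).2
      have hs2 := Subgroup.mem_centralizer_singleton_iff.1 (Subgroup.mem_subgroupOf.1 s.2)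
      have hfix : c * t * c⁻¹ = t := by rw [← hc.eq, mul_inv_cancel_right]
      have ht2 : Commute (g * c * ((s : C) : G) * (g * c)⁻¹) t' := by
        rw [ht', ← hfix, show g * (c * t * c⁻¹) * g⁻¹ = g * c * t * (g * c)⁻¹ by group]
        exact (Commute.conj_iff _).2 hs1
      have ha2 : Commute (g * c * ((s : C) : G) * (g * c)⁻¹) a' := by
        rw [ha', show g * (c * a * c⁻¹) * g⁻¹ = g * c * a * (g * c)⁻¹ by group]
        exact (Commute.conj_iff _).2 hs2
      rcases eq_of_mem_sylow hP (hg t htU) (hg _ hcU) ht1 ha1 hta' hx with rfl | rfl | rfl | rfl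
      · rw [one_mul, mul_one]
      · exact ht2.eq.symm
      · exact ha2.eq.symm
      · exact (ht2.mul_right ha2).eq.symm
    · have hx := Subgroup.mem_centralizer_iff.1 x.2
      rw [Subgroup.mem_centralizer_singleton_iff]
      have h1 := hx _ (hg t htU)
      have hfix : c⁻¹ * t * c = t := by rw [mul_assoc, hc.eq, inv_mul_cancel_left]
      calc (g * c)⁻¹ * (x : G) * (g * c) * t
          = (g * c)⁻¹ * ((x : G) * (g * t * g⁻¹)) * (g * c) := by
            conv_lhs => rw [← hfix]
            group
        _ = (g * c)⁻¹ * ((g * t * g⁻¹) * (x : G)) * (g * c) := by rw [h1]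
        _ = c⁻¹ * t * c * ((g * c)⁻¹ * (x : G) * (g * c)) := by group
        _ = t * ((g * c)⁻¹ * (x : G) * (g * c)) := by rw [hfix]
    · have hx := Subgroup.mem_centralizer_iff.1 x.2
      rw [Subgroup.mem_subgroupOf, Subgroup.mem_centralizer_singleton_iff]
      have h1 := hx _ (hg _ hcU)
      calc (g * c)⁻¹ * (x : G) * (g * c) * a
          = (g * c)⁻¹ * ((x : G) * (g * (c * a * c⁻¹) * g⁻¹)) * (g * c) := by group
        _ = (g * c)⁻¹ * ((g * (c * a * c⁻¹) * g⁻¹) * (x : G)) * (g * c) := by rw [h1]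
        _ = a * ((g * c)⁻¹ * (x : G) * (g * c)) := by group
  rw [← Nat.card_eq_of_bijective f hf, ← hcardS, ← hcardC,
    Subgroup.card_eq_card_quotient_mul_card_subgroup S]

/-- The number of involutions whose product with `J` has even order. -/
theorem card_partners {P : Sylow 2 G} (hP : IsKleinFour (P : Subgroup G))
    (hone : ∀ s t : G, orderOf s = 2 → orderOf t = 2 → IsConj s t) {J : G} (hJ : orderOf J = 2) :
    Nat.card {v : G // orderOf v = 2 ∧ 2 ∣ orderOf (J * v)} *
        Nat.card (Subgroup.centralizer ((P : Subgroup G) : Set G)) ^ 2 =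
      2 * Nat.card (Subgroup.centralizer ({J} : Set G)) ^ 2 := by
  classical
  haveI : Fact (Nat.Prime 2) := ⟨Nat.prime_two⟩
  haveI := Fintype.ofFinite G
  let S : Finset G := Finset.univ.filter fun t => orderOf t = 2 ∧ Commute J t ∧ t ≠ J
  let V : Finset G := Finset.univ.filter fun v => orderOf v = 2 ∧ 2 ∣ orderOf (J * v)
  have hmain : V = S.biUnion fun t => (cls t (t * J)).toFinite.toFinset := by
    ext v
    simp only [V, S, Finset.mem_filter, Finset.mem_univ, true_and, Finset.mem_biUnion,
      Set.Finite.mem_toFinset]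
    constructor
    · rintro ⟨hv, heven⟩
      obtain ⟨u, r, hur, hc, ⟨k, hk⟩, hr⟩ := exists_isPPart (G := G) Nat.prime_two (J * v)
      have huu : u⁻¹ = u := inv_eq_of_mul_eq_one_right (mul_self_of_two_power hP ⟨k, hk⟩)
      have hu1 : u ≠ 1 := fun h => hr (by rwa [← hur, h, one_mul] at heven)
      have hu : orderOf u = 2 := orderOf_eq_prime
        (by rw [pow_two]; exact mul_self_of_two_power hP ⟨k, hk⟩) hu1
      have hJJ : J⁻¹ = J := inv_eq_of_mul_eq_one_right (by
        rw [← pow_two, ← hJ, pow_orderOf_eq_one])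
      have hvv : v⁻¹ = v := inv_eq_of_mul_eq_one_right (by
        rw [← pow_two, ← hv, pow_orderOf_eq_one])
      have hJu : Commute J u := by
        have h1 : IsPPart 2 (J * v)⁻¹ (J * u * J⁻¹) :=
          ⟨J * r * J⁻¹, by
            rw [show J * u * J⁻¹ * (J * r * J⁻¹) = J * (u * r) * J⁻¹ by group, hur, mul_inv_rev,
              hvv]
            simp [← mul_assoc, ← pow_two, ← hJ, pow_orderOf_eq_one],
            (Commute.conj_iff J).2 hc,
            ⟨k, (orderOf_injective (MulAut.conj J).toMonoidHom (MulAut.conj J).injective u).trans hk⟩,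
            by
              rw [show orderOf (J * r * J⁻¹) = orderOf r from
                orderOf_injective (MulAut.conj J).toMonoidHom (MulAut.conj J).injective r]
              exact hr⟩
        have h2 : IsPPart 2 (J * v)⁻¹ u⁻¹ :=
          ⟨r⁻¹, by rw [← hur, mul_inv_rev]; exact hc.inv_inv.eq, hc.inv_inv,
            ⟨k, by rw [orderOf_inv]; exact hk⟩, by rwa [orderOf_inv]⟩
        exact mul_inv_eq_iff_eq_mul.1 ((isPPart_unique Nat.prime_two h1 h2).trans huu)
      have huv : Commute u v := by
        have h : v = J⁻¹ * (u * r) := by rw [hur, inv_mul_cancel_left]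
        rw [h]
        exact (hJu.symm.inv_right).mul_right ((Commute.refl u).mul_right hc)
      have huJ : u ≠ J := fun h => by
        rw [h] at hur
        rw [mul_left_cancel hur, hv] at hr
        exact hr dvd_rfl
      have hvu : v ≠ u := fun h => by
        subst h
        rw [hJu.eq] at hur
        rw [mul_left_cancel hur, hJ] at hr
        exact hr dvd_rfl
      refine ⟨u, ⟨hu, hJu, huJ⟩, (mem_cls_or hP hu hJ hJu.symm huJ.symm hv huv hvu).resolve_left
        fun h => not_two_dvd_of_mem_cls hP hu hJ hJu.symm h heven⟩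
    · rintro ⟨t, ⟨ht, hJt, htJ⟩, hv⟩
      obtain ⟨hb, htb, -⟩ := mul_orderOf_two ht hJ hJt.symm htJ.symm
      refine ⟨orderOf_eq_two_of_cls hb hv, ?_⟩
      have hodd := not_two_dvd_of_mem_cls hP ht hb htb hv
      obtain ⟨c, hc, hcv⟩ := hv
      have htv : Commute t v := by
        rw [← hcv]; exact (hc.mul_right htb).mul_right hc.inv_right
      have h : J * v = t * (t * J * v) := by
        rw [← mul_assoc, ← mul_assoc, ← pow_two, ← ht, pow_orderOf_eq_one, one_mul]
      rw [h, (htb.mul_right htv).orderOf_mul_eq_mul_orderOf_of_coprime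
        (by rw [ht]; exact Nat.prime_two.coprime_iff_not_dvd.2 hodd), ht]
      exact dvd_mul_right 2 _
  have hdisj : (S : Set G).PairwiseDisjoint fun t => (cls t (t * J)).toFinite.toFinset := by
    intro t ht t' ht' hne
    simp only [Function.onFun]
    rw [Finset.disjoint_left]
    intro v hv hv'
    simp only [Set.Finite.mem_toFinset] at hv hv'
    simp only [S, Finset.coe_filter, Finset.mem_univ, true_and, Set.mem_ofPred_eq] at ht ht'
    have key : ∀ s : G, orderOf s = 2 ∧ Commute J s ∧ s ≠ J → v ∈ cls s (s * J) →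
        IsPPart 2 (J * v) s := by
      rintro s ⟨hs, hJs, hsJ⟩ hvs
      obtain ⟨hb, hsb, -⟩ := mul_orderOf_two hs hJ hJs.symm hsJ.symm
      have hodd := not_two_dvd_of_mem_cls hP hs hb hsb hvs
      obtain ⟨c, hc, hcv⟩ := hvs
      have hsv : Commute s v := by
        rw [← hcv]; exact (hc.mul_right hsb).mul_right hc.inv_right
      refine ⟨s * J * v, ?_, hsb.mul_right hsv, ⟨1, by rw [hs, pow_one]⟩, hodd⟩
      rw [← mul_assoc, ← mul_assoc, ← pow_two, ← hs, pow_orderOf_eq_one, one_mul]
    exact hne (isPPart_unique Nat.prime_two (key t ht hv) (key t' ht' hv'))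
  have hN : ∀ t ∈ S, (cls t (t * J)).toFinite.toFinset.card *
      Nat.card (Subgroup.centralizer ((P : Subgroup G) : Set G)) =
      Nat.card (Subgroup.centralizer ({J} : Set G)) := by
    intro t ht
    simp only [S, Finset.mem_filter, Finset.mem_univ, true_and] at ht
    obtain ⟨hb, htb, hbt⟩ := mul_orderOf_two ht.1 hJ ht.2.1.symm ht.2.2.symm
    rw [← Nat.card_eq_card_finite_toFinset]
    exact card_cls hP hone hJ ht.1 hb htb hbt
  -- the involutions commuting with J form two classes
  have hS : S.card * Nat.card (Subgroup.centralizer ((P : Subgroup G) : Set G)) =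
      2 * Nat.card (Subgroup.centralizer ({J} : Set G)) := by
    obtain ⟨U, hU, hJU⟩ := exists_sylow_mem hP ⟨1, by rw [hJ, pow_one]⟩
    obtain ⟨a, ha1, haJ, haU⟩ : ∃ a : G, a ≠ 1 ∧ a ≠ J ∧ a ∈ (U : Subgroup G) := by
      by_contra hcon
      push Not at hcon
      have h : Nat.card (U : Subgroup G) ≤ ({1, J} : Finset G).card := by
        rw [← Nat.card_eq_finsetCard]
        refine Nat.card_le_card_of_injective (fun y => ⟨(y : G), ?_⟩) fun y y' h =>
          Subtype.ext (congrArg Subtype.val h :)
        simp only [Finset.mem_insert, Finset.mem_singleton]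
        by_contra h'
        rw [not_or] at h'
        exact hcon y h'.1 h'.2 y.2
      have h4 : Nat.card (U : Subgroup G) = 4 := hU.card_four
      have := Finset.card_le_two (a := (1 : G)) (b := J)
      omega
    have hJa : Commute J a :=
      Commute.symm (Subgroup.mem_centralizer_singleton_iff.1 (le_centralizer hU hJU haU))
    have ha := orderOf_eq_two_of_mem hU haU ha1
    obtain ⟨hb, hJb, hbJ⟩ := mul_orderOf_two hJ ha hJa haJ
    have hST : S = (cls J a).toFinite.toFinset ∪ (cls J (J * a)).toFinite.toFinset := by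
      ext x
      simp only [S, Finset.mem_filter, Finset.mem_univ, true_and, Finset.mem_union,
        Set.Finite.mem_toFinset]
      constructor
      · rintro ⟨hx, hJx, hxJ⟩
        exact mem_cls_or hP hJ ha hJa haJ hx hJx hxJ
      · have key : ∀ b : G, orderOf b = 2 → Commute J b → b ≠ J → x ∈ cls J b →
            orderOf x = 2 ∧ Commute J x ∧ x ≠ J := by
          intro b hb hJb hbJ hx
          refine ⟨orderOf_eq_two_of_cls hb hx, ?_, ?_⟩
          · obtain ⟨c, hc, rfl⟩ := hx
            exact (hc.mul_right hJb).mul_right hc.inv_right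
          · obtain ⟨c, hc, rfl⟩ := hx
            intro h
            rw [mul_inv_eq_iff_eq_mul, hc.eq] at h
            exact hbJ (mul_left_cancel h)
        rintro (hx | hx)
        · exact key a ha hJa haJ hx
        · exact key _ hb hJb hbJ hx
    have hd : Disjoint (cls J a).toFinite.toFinset (cls J (J * a)).toFinite.toFinset := by
      rw [Finset.disjoint_left]
      intro x hx hx'
      simp only [Set.Finite.mem_toFinset] at hx hx'
      obtain ⟨c, hc, rfl⟩ := hx
      obtain ⟨d, hd, hdc⟩ := hx'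
      refine not_two_dvd_of_mem_cls hP hJ ha hJa (v := J * a)
        ⟨d⁻¹ * c, hd.inv_right.mul_right hc, ?_⟩ ?_
      · calc d⁻¹ * c * a * (d⁻¹ * c)⁻¹ = d⁻¹ * (c * a * c⁻¹) * d := by group
          _ = J * a := by rw [← hdc]; group
      · rw [← mul_assoc, hJa.symm.eq, mul_assoc, ← pow_two a, ← ha, pow_orderOf_eq_one, mul_one, hJ,
          ha]
    rw [hST, Finset.card_union_of_disjoint hd, add_mul, ← Nat.card_eq_card_finite_toFinset,
      ← Nat.card_eq_card_finite_toFinset, card_cls hP hone hJ hJ ha hJa haJ,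
      card_cls hP hone hJ hJ hb hJb hbJ, two_mul]
  rw [Nat.card_eq_fintype_card, Fintype.card_subtype,
    show (Finset.univ.filter fun v => orderOf v = 2 ∧ 2 ∣ orderOf (J * v)) = V from rfl, hmain,
    Finset.card_biUnion hdisj, Finset.sum_mul]
  rw [Finset.sum_congr rfl (g := fun _ => Nat.card (Subgroup.centralizer ({J} : Set G)) *
      Nat.card (Subgroup.centralizer ((P : Subgroup G) : Set G)))
    (fun t ht => by rw [pow_two, ← mul_assoc, hN t ht]), Finset.sum_const, smul_eq_mul]
  calc S.card * (Nat.card (Subgroup.centralizer ({J} : Set G)) *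
        Nat.card (Subgroup.centralizer ((P : Subgroup G) : Set G)))
      = S.card * Nat.card (Subgroup.centralizer ((P : Subgroup G) : Set G)) *
        Nat.card (Subgroup.centralizer ({J} : Set G)) := by ring
    _ = _ := by rw [hS]; ring

end CfsgLib.KleinFourBlock
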