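import Mathlib
import Cfsg.Agent.Constrained.Basic

/-!
# Centralisers of involutions when a Sylow 2-subgroup is a Klein four-group
-/

set_option autoImplicit false

namespace CfsgLib.KleinFourBlock

universe u

variable {G : Type u} [Group G] [Finite G]

/-- A Klein four-group lies in the centraliser of each of its elements. -/
theorem le_centralizer {P : Subgroup G} (hP : IsKleinFour P) {z : G} (hz : z ∈ P) :
    P ≤ Subgroup.centralizer ({z} : Set G) := fun x hx =>
  Subgroup.mem_centralizer_singleton_iff.2 (congrArg Subtype.val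
    (mul_comm_of_exponent_two hP.exponent_two (⟨x, hx⟩ : P) ⟨z, hz⟩) :)

/-- In the centraliser of an element of a Klein four Sylow 2-subgroup that subgroup is central in its
normaliser. -/
theorem normalizer_le_centralizer (P : Sylow 2 G) (hP : IsKleinFour (P : Subgroup G)) {z : G}
    (hz : z ∈ (P : Subgroup G)) (hz1 : z ≠ 1) (T : Sylow 2 (Subgroup.centralizer ({z} : Set G)))
    (hT : T = P.subtype (show (P : Subgroup G) ≤ Subgroup.centralizer ({z} : Set G) from
      le_centralizer hP hz)) :
    Subgroup.normalizer ((T : Subgroup (Subgroup.centralizer ({z} : Set G))) : Set (Subgroup.centralizer ({z} : Set G))) ≤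
      Subgroup.centralizer ((T : Subgroup (Subgroup.centralizer ({z} : Set G))) : Set (Subgroup.centralizer ({z} : Set G))) := by
  classical
  haveI := hP
  revert hT
  revert T
  set C := Subgroup.centralizer ({z} : Set G) with hC
  intro T hT
  have hcomm : IsMulCommutative (P : Subgroup G) := ⟨⟨fun a b => mul_comm_of_exponent_two IsKleinFour.exponent_two a b⟩⟩
  have hPC : (P : Subgroup G) ≤ C := le_centralizer hP hz
  have hTcard : Nat.card (T : Subgroup C) = 4 := by
    rw [hT, Sylow.coe_subtype, Nat.card_congr (Subgroup.subgroupOfEquivOfLe hPC).toEquiv]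
    exact IsKleinFour.card_four
  have hmem : ∀ t : C, t ∈ (T : Subgroup C) ↔ (t : G) ∈ (P : Subgroup G) := fun t => by
    rw [hT, Sylow.coe_subtype, Subgroup.mem_subgroupOf]
  have hTcomm : ∀ a ∈ (T : Subgroup C), ∀ b ∈ (T : Subgroup C), a * b = b * a := fun a ha b hb =>
    Subtype.ext (congrArg Subtype.val (hcomm.is_comm.comm
      (⟨a, (hmem a).1 ha⟩ : (P : Subgroup G)) ⟨b, (hmem b).1 hb⟩) :)
  intro n hn
  rw [Subgroup.mem_centralizer_iff]
  intro w hw
  set m := (T : Subgroup C).relIndex (Subgroup.normalizer ((T : Subgroup C) : Set C)) with hm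
  have hmodd : ¬ 2 ∣ m := fun h =>
    T.not_dvd_index (h.trans (Subgroup.relIndex_dvd_index_of_le Subgroup.le_normalizer))
  have h1 : n ^ m ∈ (T : Subgroup C) := by
    haveI := Subgroup.normal_in_normalizer (H := (T : Subgroup C))
    have := Subgroup.pow_index_mem ((T : Subgroup C).subgroupOf
      (Subgroup.normalizer ((T : Subgroup C) : Set C))) ⟨n, hn⟩
    rw [Subgroup.mem_subgroupOf] at this
    exact this
  have h2 : Commute (n ^ m) w := hTcomm _ h1 _ hw
  set a : C := ⟨z, Subgroup.mem_centralizer_singleton_iff.2 rfl⟩ with ha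
  have haT : a ∈ (T : Subgroup C) := (hmem a).2 hz
  have hfix : ∀ b : C, b * a * b⁻¹ = a := fun b => by
    rw [mul_inv_eq_iff_eq_mul]
    exact Subtype.ext (Subgroup.mem_centralizer_singleton_iff.1 b.2)
  have ha1 : a ≠ 1 := fun h => hz1 (congrArg Subtype.val h)
  have h3 : Commute (n ^ 2) w := by
    by_cases hw1 : w = 1
    · rw [hw1]; exact Commute.one_right _
    by_cases hwa : w = a
    · rw [hwa]
      exact mul_inv_eq_iff_eq_mul.1 (hfix (n ^ 2))
    have hwin : ∀ x ∈ (T : Subgroup C), x ≠ 1 → x ≠ a → x = w ∨ x = w * a := by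
      intro x hx hx1 hxa
      by_contra hne
      rw [not_or] at hne
      have h5 : ({1, a, w, w * a, x} : Finset C).card ≤ 4 := by
        rw [← hTcard, ← Nat.card_eq_finsetCard]
        refine Nat.card_le_card_of_injective (fun y => (⟨y.1, ?_⟩ : (T : Subgroup C)))
          fun y y' h => Subtype.ext (congrArg Subtype.val h :)
        have := y.2
        simp only [Finset.mem_insert, Finset.mem_singleton] at this
        rcases this with h | h | h | h | h <;> rw [h]
        exacts [one_mem _, haT, hw, mul_mem hw haT, hx]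
      have hwa1 : w * a ≠ 1 := fun h => hwa (by
        have h' : (a : C) * a = 1 := Subtype.ext (congrArg Subtype.val
          (IsKleinFour.mul_self (⟨z, hz⟩ : (P : Subgroup G))) :)
        exact mul_right_cancel (h.trans h'.symm))
      have hwaa : w * a ≠ a := fun h => hw1 (mul_eq_right.1 h)
      have hww : w ≠ w * a := fun h => ha1 (left_eq_mul.1 h)
      rw [Finset.card_insert_of_notMem (by simp [ha1.symm, Ne.symm hw1, hwa1.symm, hx1.symm]),
        Finset.card_insert_of_notMem (by simp [Ne.symm hwa, hwaa.symm, hxa.symm]),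
        Finset.card_insert_of_notMem (by simp [hww, Ne.symm hne.1]),
        Finset.card_insert_of_notMem (by simp [Ne.symm hne.2]), Finset.card_singleton] at h5
      omega
    have himg : n * w * n⁻¹ = w ∨ n * w * n⁻¹ = w * a := by
      refine hwin _ ((Subgroup.mem_normalizer_iff.1 hn w).1 hw) (by simpa using hw1) ?_
      intro h
      exact hwa (mul_left_cancel (mul_right_cancel (h.trans (hfix n).symm)))
    show n ^ 2 * w = w * n ^ 2
    rw [← mul_inv_eq_iff_eq_mul]
    calc n ^ 2 * w * (n ^ 2)⁻¹ = n * (n * w * n⁻¹) * n⁻¹ := by rw [pow_two]; group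
      _ = w := by
        rcases himg with h | h
        · rw [h, h]
        · rw [h, show n * (w * a) * n⁻¹ = (n * w * n⁻¹) * (n * a * n⁻¹) by group, h, hfix,
            mul_assoc, show (a : C) * a = 1 from Subtype.ext (congrArg Subtype.val
              (IsKleinFour.mul_self (⟨z, hz⟩ : (P : Subgroup G))) :), mul_one]
  have hcop : Nat.Coprime 2 m := Nat.prime_two.coprime_iff_not_dvd.2 hmodd
  obtain ⟨j, hj⟩ : ∃ j, m = 2 * j + 1 := ⟨m / 2, by omega⟩
  have h4 : Commute ((n ^ (2 * j))⁻¹ * n ^ m) w :=
    ((pow_mul n 2 j ▸ h3.pow_left j).inv_left).mul_left h2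
  rw [hj, pow_succ, inv_mul_cancel_left] at h4
  exact h4.eq.symm

/-- The index of the odd core of the centraliser divides four. -/
theorem index_pPrimeCore_dvd_four (P : Sylow 2 G) (hP : IsKleinFour (P : Subgroup G)) {z : G}
    (hz : z ∈ (P : Subgroup G)) (hz1 : z ≠ 1) :
    (Cfsg.pPrimeCore 2 (Subgroup.centralizer ({z} : Set G))).index ∣ 4 := by
  haveI : Fact (Nat.Prime 2) := ⟨Nat.prime_two⟩
  set T : Sylow 2 (Subgroup.centralizer ({z} : Set G)) := P.subtype (le_centralizer hP hz) with hT
  have hNC := normalizer_le_centralizer P hP hz hz1 T hT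
  have hcompl := MonoidHom.ker_transferSylow_isComplement' T hNC
  have hK : (MonoidHom.transferSylow T hNC).ker ≤ Cfsg.pPrimeCore 2 _ :=
    Constrained.le_pPrimeCore_of_not_dvd inferInstance
      (MonoidHom.not_dvd_card_ker_transferSylow T hNC)
  refine (Subgroup.index_dvd_of_le hK).trans (dvd_of_eq (hcompl.symm.index_eq_card.trans ?_))
  rw [hT, Sylow.coe_subtype,
    Nat.card_congr (Subgroup.subgroupOfEquivOfLe (le_centralizer hP hz)).toEquiv]
  exact hP.card_four

/-- The centraliser of an element of a Klein four Sylow 2-subgroup has a normal 2-complement. -/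
theorem index_pPrimeCore_centralizer (P : Sylow 2 G) (hP : IsKleinFour (P : Subgroup G)) {z : G}
    (hz : z ∈ (P : Subgroup G)) (hz1 : z ≠ 1) :
    ∃ k : ℕ, (Cfsg.pPrimeCore 2 (Subgroup.centralizer ({z} : Set G))).index = 2 ^ k := by
  obtain ⟨k, -, hk⟩ := (Nat.dvd_prime_pow Nat.prime_two).1
    ((index_pPrimeCore_dvd_four P hP hz hz1).trans (dvd_of_eq (by norm_num : (4 : ℕ) = 2 ^ 2)))
  exact ⟨k, hk⟩

end CfsgLib.KleinFourBlock
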