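import Cfsg.Agent.KleinFourBlock.Counting
import Cfsg.Agent.S0840
import Cfsg.Agent.Chars.FrobSchur.Count
import Cfsg.Agent.Blocks.Orth.PrincipalGalois

/-!
# Consequences of the indicator identity
-/

set_option autoImplicit false
set_option linter.style.haveILetI false

namespace CfsgLib.KleinFourBlock

open Cfsg CfsgLib.Blocks
open scoped ComplexConjugate

universe u

variable {G : Type u} [Group G] [Fintype G] {M : Ideal AlgInt} {P : Sylow 2 G}

/-- The order formula, before evaluation of the cubic sum. -/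
theorem card_mul_sum_cube (hM : IsPModular 2 M) (hP : IsKleinFour (P : Subgroup G))
    (hone : ∀ s t : G, orderOf s = 2 → orderOf t = 2 → IsConj s t) {J : G} (hJ : orderOf J = 2) :
    (Nat.card G : ℂ) * (∑ χ ∈ (principalBlock M G).toFinite.toFinset,
        (χ : G → ℂ) J ^ 3 / (χ : G → ℂ) 1) *
        (Nat.card (Subgroup.centralizer ((P : Subgroup G) : Set G)) : ℂ) ^ 2 =
      8 * (Nat.card (Subgroup.centralizer ({J} : Set G)) : ℂ) ^ 3 := by
  classical
  have h1 : ∑ a : G, (∑ χ ∈ (principalBlock M G).toFinite.toFinset,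
      (χ : G → ℂ) J * (χ : G → ℂ) (J * (a * J * a⁻¹))) =
      (Nat.card G : ℂ) * ∑ χ ∈ (principalBlock M G).toFinite.toFinset,
        (χ : G → ℂ) J ^ 3 / (χ : G → ℂ) 1 := by
    rw [Finset.sum_comm, Finset.mul_sum]
    refine Finset.sum_congr rfl fun χ _ => ?_
    rw [← Finset.mul_sum, Chars.sum_map_mul_conjugate χ J J]
    ring
  have h2 : ∑ a : G, (∑ χ ∈ (principalBlock M G).toFinite.toFinset,
      (χ : G → ℂ) J * (χ : G → ℂ) (J * (a * J * a⁻¹))) =
      4 * (Nat.card (Subgroup.centralizer ({J} : Set G)) : ℂ) *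
        (Nat.card {v : G // orderOf v = 2 ∧ 2 ∣ orderOf (J * v)} : ℂ) := by
    simp only [sum_block_mul hM hP hone hJ]
    rw [Cfsg.Agent.S0840.sum_conjugates J (fun v => if 2 ∣ orderOf (J * v) then (4 : ℂ) else 0),
      ← Finset.sum_filter, Finset.sum_const, nsmul_eq_mul, Nat.card_eq_fintype_card
        (α := {v : G // orderOf v = 2 ∧ 2 ∣ orderOf (J * v)}), Fintype.card_subtype,
      Finset.filter_filter]
    have : (Finset.univ.filter fun v => IsConj J v ∧ 2 ∣ orderOf (J * v)) =
        Finset.univ.filter fun v => orderOf v = 2 ∧ 2 ∣ orderOf (J * v) := by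
      refine Finset.filter_congr fun v _ => and_congr_left fun _ => ⟨fun h => ?_, fun h => hone J v hJ h⟩
      obtain ⟨g, rfl⟩ := isConj_iff.1 h
      exact (orderOf_injective (MulAut.conj g).toMonoidHom (MulAut.conj g).injective J).trans hJ
    rw [this]
    ring
  have h3 := congrArg (fun k : ℕ => (k : ℂ)) (card_partners hP hone hJ)
  simp only [Nat.cast_mul, Nat.cast_pow, Nat.cast_ofNat] at h3
  rw [← h1, h2]
  linear_combination (4 * (Nat.card (Subgroup.centralizer ({J} : Set G)) : ℂ)) * h3

/-- The indicators cancel in the column of an involution. -/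
theorem sum_indicator_block (hM : IsPModular 2 M) (hP : IsKleinFour (P : Subgroup G))
    (hone : ∀ s t : G, orderOf s = 2 → orderOf t = 2 → IsConj s t) {J : G} (hJ : orderOf J = 2) :
    ∑ χ ∈ (principalBlock M G).toFinite.toFinset,
      (χ : G → ℂ) J * CfsgLib.FrobSchur.indicator (χ : G → ℂ) = 0 := by
  classical
  simp only [CfsgLib.FrobSchur.indicator_def, Finset.mul_sum, ← mul_assoc,
    mul_comm _ ((Nat.card G : ℂ)⁻¹)]
  rw [Finset.sum_comm]
  refine Finset.sum_eq_zero fun s _ => ?_
  simp only [mul_assoc, ← Finset.mul_sum]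
  rw [sum_block_mul hM hP hone hJ, if_neg (not_two_dvd_orderOf_mul_self hP s), mul_zero]

/-- The complex conjugate of a member of the principal block. -/
theorem exists_conj_mem {χ : IrrCharacter G} (hχ : χ ∈ principalBlock M G) :
    ∃ ψ ∈ principalBlock M G, ∀ g : G, (ψ : G → ℂ) g = conj ((χ : G → ℂ) g) := by
  have hpos : 0 < Nat.card G := Nat.card_pos
  have hk : (Nat.card G - 1).Coprime (Nat.card G) :=
    Nat.coprime_of_dvd' fun q _ h1 h2 => by
      have := Nat.dvd_sub h2 h1
      rwa [show Nat.card G - (Nat.card G - 1) = 1 by omega] at this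
  refine ⟨Blocks.Orth.powIrr hk χ, Blocks.Orth.powIrr_mem_principalBlock hk hχ, fun g => ?_⟩
  rw [Blocks.Orth.powIrr_apply, ← Chars.map_inv_eq_conj (Chars.isCharacter_coe χ)]
  refine congrArg (χ : G → ℂ) (eq_inv_of_mul_eq_one_left (a := g ^ (Nat.card G - 1)) (b := g) ?_)
  rw [← pow_succ, show Nat.card G - 1 + 1 = Nat.card G by omega, pow_card_eq_one']

end CfsgLib.KleinFourBlock
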