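import Cfsg.Agent.Eq.Def_Blocks
import Cfsg.Agent.KleinFourBlock.Centralizer
import Cfsg.Agent.Transfer.NormalPComplement
import Cfsg.Agent.ZStar.Quaternion
import Cfsg.Agent.S0944
import Cfsg.Agent.S0947

/-!
# The principal 2-block with a Klein four Sylow 2-subgroup and one class of involutions

* `isKleinFour_of_no_complement`, `isConj_of_no_complement`: the setting follows from `4 ∥ |G|` and
  the absence of a normal 2-complement;
* `sum_block_mul`: `∑_{χ ∈ B₀} χ(z) χ(g)` is four times the indicator of the 2-singular elements.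
-/

set_option autoImplicit false
set_option linter.style.haveILetI false

namespace CfsgLib.KleinFourBlock

open Cfsg CfsgLib.Blocks

universe u

variable {G : Type u} [Group G] [Finite G]

theorem isKleinFour_of_card {A : Type u} [Group A] (hcard : Nat.card A = 4)
    (hexp : ∀ x : A, x * x = 1) : IsKleinFour A := by
  refine ⟨hcard, ?_⟩
  have hd : Monoid.exponent A ∣ 2 :=
    Monoid.exponent_dvd_of_forall_pow_eq_one fun x => by rw [pow_two, hexp]
  refine (Nat.prime_two.eq_one_or_self_of_dvd _ hd).resolve_left fun h => ?_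
  haveI := Monoid.exp_eq_one_iff.1 h
  simp [Nat.card_unique] at hcard

theorem sq_eq_one_of_mem {P : Subgroup G} (hP : IsKleinFour P) {x : G} (hx : x ∈ P) : x * x = 1 :=
  haveI := hP
  congrArg Subtype.val (IsKleinFour.mul_self (⟨x, hx⟩ : P))

theorem orderOf_eq_two_of_mem {P : Subgroup G} (hP : IsKleinFour P) {x : G} (hx : x ∈ P)
    (hx1 : x ≠ 1) : orderOf x = 2 :=
  orderOf_eq_prime (by rw [pow_two, sq_eq_one_of_mem hP hx]) hx1

theorem exists_sylow_conj {P : Sylow 2 G} (hP : IsKleinFour (P : Subgroup G)) (U : Sylow 2 G) :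
    IsKleinFour (U : Subgroup G) ∧ ∃ g : G, ∀ y ∈ (U : Subgroup G), g * y * g⁻¹ ∈ (P : Subgroup G) := by
  obtain ⟨g, hg⟩ := MulAction.exists_smul_eq G U P
  have hmem : ∀ y ∈ (U : Subgroup G), g * y * g⁻¹ ∈ (P : Subgroup G) := fun y hy => by
    rw [← hg]; exact ⟨y, hy, rfl⟩
  refine ⟨isKleinFour_of_card ?_ ?_, g, hmem⟩
  · rw [U.card_eq_multiplicity, ← P.card_eq_multiplicity]
    exact hP.card_four
  · rintro ⟨y, hy⟩
    apply Subtype.ext
    have h := sq_eq_one_of_mem hP (hmem y hy)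
    show y * y = 1
    rw [show g * y * g⁻¹ * (g * y * g⁻¹) = g * (y * y) * g⁻¹ by group, conj_eq_one_iff] at h
    exact h

theorem exists_sylow_mem {P : Sylow 2 G} (hP : IsKleinFour (P : Subgroup G)) {t : G}
    (ht : ∃ k : ℕ, orderOf t = 2 ^ k) :
    ∃ U : Sylow 2 G, IsKleinFour (U : Subgroup G) ∧ t ∈ (U : Subgroup G) := by
  obtain ⟨k, hk⟩ := ht
  have htp : IsPGroup 2 (Subgroup.zpowers t) :=
    IsPGroup.of_card (n := k) (by rw [Nat.card_zpowers, hk])
  obtain ⟨U, hU⟩ := htp.exists_le_sylow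
  exact ⟨U, (exists_sylow_conj hP U).1, hU (Subgroup.mem_zpowers t)⟩

theorem mul_self_of_two_power {P : Sylow 2 G} (hP : IsKleinFour (P : Subgroup G)) {t : G}
    (ht : ∃ k : ℕ, orderOf t = 2 ^ k) : t * t = 1 := by
  obtain ⟨U, hU, htU⟩ := exists_sylow_mem hP ht
  exact sq_eq_one_of_mem hU htU

/-- There are no elements of order four: squares are 2-regular. -/
theorem not_two_dvd_orderOf_mul_self {P : Sylow 2 G} (hP : IsKleinFour (P : Subgroup G)) (s : G) :
    ¬ 2 ∣ orderOf (s * s) := by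
  obtain ⟨k, r, hr, hkr⟩ := Nat.exists_eq_two_pow_mul_odd (orderOf_pos s).ne'
  have h1 : orderOf (s ^ r) = 2 ^ k := by
    rw [orderOf_pow, hkr, Nat.gcd_eq_right (dvd_mul_left r _), Nat.mul_div_cancel _ hr.pos]
  have h2 := mul_self_of_two_power hP ⟨k, h1⟩
  rw [← pow_two, ← orderOf_dvd_iff_pow_eq_one, h1] at h2
  have hk : k ≤ 1 := by
    by_contra hk
    have := Nat.le_of_dvd two_pos ((pow_dvd_pow 2 (by omega : 2 ≤ k)).trans h2)
    omega
  intro hdvd
  refine hr.not_two_dvd_nat (hdvd.trans (orderOf_dvd_of_pow_eq_one ?_))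
  rw [← pow_two, ← pow_mul, ← orderOf_dvd_iff_pow_eq_one, hkr]
  exact mul_dvd_mul_right (by simpa using pow_dvd_pow 2 hk) r

theorem not_commute_of_no_complement {g₀ : ℕ} (hG : Nat.card G = 4 * g₀)
    (hnc : ¬ ∃ N : Subgroup G, N.Normal ∧ Nat.card N = g₀) (P : Sylow 2 G)
    (hP4 : Nat.card (P : Subgroup G) = 4) :
    ¬ Subgroup.normalizer ((P : Subgroup G) : Set G) ≤
      Subgroup.centralizer ((P : Subgroup G) : Set G) := by
  haveI : Fact (Nat.Prime 2) := ⟨Nat.prime_two⟩
  intro h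
  obtain ⟨N, hN, hNP⟩ := Transfer.exists_isComplement'
    (Transfer.hasNormalPComplement_of_normalizer_le_centralizer P h) P
  refine hnc ⟨N, hN, ?_⟩
  have := hNP.card_mul_card
  rw [hP4, hG] at this
  omega

theorem card_sylow_eq_four {g₀ : ℕ} (hg₀ : Odd g₀) (hG : Nat.card G = 4 * g₀) (P : Sylow 2 G) :
    Nat.card (P : Subgroup G) = 4 := by
  have h0 : g₀ ≠ 0 := by rintro rfl; simp at hg₀
  rw [P.card_eq_multiplicity, hG, Nat.factorization_mul (by norm_num) h0, Finsupp.add_apply,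
    show (4 : ℕ) = 2 ^ 2 by norm_num, Nat.factorization_pow_self Nat.prime_two,
    Nat.factorization_eq_zero_of_not_dvd hg₀.not_two_dvd_nat]

theorem isKleinFour_of_no_complement {g₀ : ℕ} (hg₀ : Odd g₀) (hG : Nat.card G = 4 * g₀)
    (hnc : ¬ ∃ N : Subgroup G, N.Normal ∧ Nat.card N = g₀) (P : Sylow 2 G) :
    IsKleinFour (P : Subgroup G) := by
  classical
  haveI : Fact (Nat.Prime 2) := ⟨Nat.prime_two⟩
  have h4 := card_sylow_eq_four hg₀ hG P
  by_cases hc : IsCyclic (P : Subgroup G)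
  · exfalso
    refine not_commute_of_no_complement hG hnc P h4 (hc.normalizer_le_centralizer ?_)
    rw [Nat.minFac_eq_two_iff, hG]
    exact ⟨2 * g₀, by ring⟩
  · refine isKleinFour_of_card h4 fun x => ?_
    by_contra hx
    refine hc (isCyclic_of_orderOf_eq_card x ?_)
    rw [h4]
    obtain ⟨k, hk, hk'⟩ := (Nat.dvd_prime_pow Nat.prime_two).1
      ((orderOf_dvd_natCard x).trans (dvd_of_eq (h4.trans (by norm_num : (4 : ℕ) = 2 ^ 2))))
    rcases Nat.lt_or_ge k 2 with hlt | hge
    · exfalso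
      refine hx ?_
      rw [← pow_two, ← orderOf_dvd_iff_pow_eq_one, hk']
      simpa using pow_dvd_pow 2 (by omega : k ≤ 1)
    · rw [hk', show k = 2 by omega]; norm_num

theorem isConj_of_no_complement {g₀ : ℕ} (hg₀ : Odd g₀) (hG : Nat.card G = 4 * g₀)
    (hnc : ¬ ∃ N : Subgroup G, N.Normal ∧ Nat.card N = g₀) (P : Sylow 2 G) :
    ∀ s t : G, orderOf s = 2 → orderOf t = 2 → IsConj s t := by
  classical
  have hP := isKleinFour_of_no_complement hg₀ hG hnc P
  obtain ⟨n, hn, hnC⟩ := SetLike.not_le_iff_exists.1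
    (not_commute_of_no_complement hG hnc P hP.card_four)
  have hfix : ∀ a ∈ (P : Subgroup G), a ≠ 1 → n * a * n⁻¹ ≠ a := by
    intro a ha ha1 hfa
    refine hnC (Subgroup.mem_centralizer_iff.2 fun w hw => ?_)
    have hna : n ∈ Subgroup.centralizer ({a} : Set G) :=
      Subgroup.mem_centralizer_singleton_iff.2 (mul_inv_eq_iff_eq_mul.1 hfa)
    have h := normalizer_le_centralizer P hP ha ha1 _ rfl (x := ⟨n, hna⟩) ?_
    · exact congrArg Subtype.val (Subgroup.mem_centralizer_iff.1 h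
        ⟨w, le_centralizer hP ha hw⟩ hw)
    · rw [Subgroup.mem_normalizer_iff]
      intro c
      exact Subgroup.mem_normalizer_iff.1 hn (c : G)
  haveI := hP
  haveI : Nontrivial (P : Subgroup G) :=
    Finite.one_lt_card_iff_nontrivial.1 (by rw [hP.card_four]; norm_num)
  obtain ⟨⟨a, ha⟩, ha1'⟩ := exists_ne (1 : (P : Subgroup G))
  have ha1 : a ≠ 1 := fun h => ha1' (Subtype.ext h)
  set b := n * a * n⁻¹ with hb
  have hbP : b ∈ (P : Subgroup G) := (Subgroup.mem_normalizer_iff.1 hn a).1 ha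
  have hb1 : b ≠ 1 := fun h => ha1 (conj_eq_one_iff.1 h)
  have hba : b ≠ a := hfix a ha ha1
  have hab1 : a * b ≠ 1 := fun h => hba (by
    have := sq_eq_one_of_mem hP ha
    exact (mul_left_cancel (this.trans h.symm)).symm)
  have haba : a * b ≠ a := fun h => hb1 (mul_eq_left.1 h)
  have habb : a * b ≠ b := fun h => ha1 (mul_eq_right.1 h)
  have hfour : ∀ x ∈ (P : Subgroup G), x ≠ 1 → x = a ∨ x = b ∨ x = a * b := by
    intro x hx hx1
    by_contra hne
    simp only [not_or] at hne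
    obtain ⟨hxa, hxb, hxab⟩ := hne
    have h5 : ({1, a, b, a * b, x} : Finset G).card ≤ 4 := by
      rw [← hP.card_four, ← Nat.card_eq_finsetCard]
      refine Nat.card_le_card_of_injective (fun y => (⟨y.1, ?_⟩ : (P : Subgroup G)))
        fun y y' h => Subtype.ext (congrArg Subtype.val h :)
      have := y.2
      simp only [Finset.mem_insert, Finset.mem_singleton] at this
      rcases this with h | h | h | h | h <;> rw [h]
      exacts [one_mem _, ha, hbP, mul_mem ha hbP, hx]
    rw [Finset.card_insert_of_notMem (by simp [ha1.symm, hb1.symm, hab1.symm, Ne.symm hx1]),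
      Finset.card_insert_of_notMem (by simp [hba.symm, haba.symm, Ne.symm hxa]),
      Finset.card_insert_of_notMem (by simp [habb.symm, Ne.symm hxb]),
      Finset.card_insert_of_notMem (by simp [Ne.symm hxab]), Finset.card_singleton] at h5
    omega
  have hbimg : n * b * n⁻¹ = a * b := by
    rcases hfour _ ((Subgroup.mem_normalizer_iff.1 hn b).1 hbP) (fun h => hb1 (conj_eq_one_iff.1 h))
      with h | h | h
    · exfalso
      refine hfix _ (mul_mem ha hbP) hab1 ?_
      rw [show n * (a * b) * n⁻¹ = n * a * n⁻¹ * (n * b * n⁻¹) by group, h, ← hb]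
      exact congrArg Subtype.val (mul_comm_of_exponent_two hP.exponent_two
        (⟨b, hbP⟩ : (P : Subgroup G)) ⟨a, ha⟩)
    · exact absurd h (hfix b hbP hb1)
    · exact h
  have hP' : ∀ x ∈ (P : Subgroup G), x ≠ 1 → IsConj a x := by
    intro x hx hx1
    have hab : IsConj a b := isConj_iff.2 ⟨n, rfl⟩
    rcases hfour x hx hx1 with rfl | rfl | rfl
    · exact IsConj.refl _
    · exact hab
    · exact hab.trans (isConj_iff.2 ⟨n, hbimg⟩)
  have key : ∀ s : G, orderOf s = 2 → IsConj a s := by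
    intro s hs
    obtain ⟨U, -, hsU⟩ := exists_sylow_mem hP ⟨1, by rw [hs, pow_one]⟩
    obtain ⟨-, g, hg⟩ := exists_sylow_conj hP U
    refine (hP' _ (hg s hsU) fun h => ?_).trans (isConj_iff.2 ⟨g, rfl⟩).symm
    rw [conj_eq_one_iff.1 h, orderOf_one] at hs
    omega
  exact fun s t hs ht => (key s hs).symm.trans (key t ht)

/-- Elements of odd order in a centraliser lie in its odd core. -/
theorem mem_pPrimeCore_of_odd {P : Sylow 2 G} (hP : IsKleinFour (P : Subgroup G)) {t : G}
    (ht : orderOf t = 2) {r : Subgroup.centralizer ({t} : Set G)} (hr : ¬ 2 ∣ orderOf r) :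
    r ∈ pPrimeCore 2 (Subgroup.centralizer ({t} : Set G)) := by
  obtain ⟨U, hU, htU⟩ := exists_sylow_mem hP ⟨1, by rw [ht, pow_one]⟩
  obtain ⟨k, hk⟩ := index_pPrimeCore_centralizer U hU htU
    (fun h => by rw [h, orderOf_one] at ht; omega)
  have h1 : r ^ 2 ^ k ∈ pPrimeCore 2 (Subgroup.centralizer ({t} : Set G)) :=
    hk ▸ Subgroup.pow_index_mem _ r
  obtain ⟨j, hj⟩ := exists_pow_eq_self_of_coprime (x := r) (n := 2 ^ k)
    ((Nat.prime_two.coprime_iff_not_dvd.2 hr).pow_left k)
  rw [← hj]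
  exact pow_mem h1 j

variable {M : Ideal AlgInt}

/-- A principal character is constant on the section of an involution. -/
theorem apply_eq_of_isPPart {P : Sylow 2 G} (hM : IsPModular 2 M)
    (hP : IsKleinFour (P : Subgroup G)) (hone : ∀ s t : G, orderOf s = 2 → orderOf t = 2 → IsConj s t)
    {z : G} (hz : orderOf z = 2) {χ : IrrCharacter G} (hχ : χ ∈ principalBlock M G) {g : G}
    (hg : 2 ∣ orderOf g) : (χ : G → ℂ) g = (χ : G → ℂ) z := by
  haveI : Fact (Nat.Prime 2) := ⟨Nat.prime_two⟩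
  haveI := Fintype.ofFinite G
  haveI := isMaximal_of_isPModular hM
  obtain ⟨u, r, hur, hc, ⟨k, hk⟩, hr⟩ := exists_isPPart (G := G) Nat.prime_two g
  have hu1 : u ≠ 1 := fun h => hr (by rwa [← hur, h, one_mul] at hg)
  have hu : orderOf u = 2 := orderOf_eq_prime
    (by rw [pow_two]; exact mul_self_of_two_power hP ⟨k, hk⟩) hu1
  have hmem : r ∈ ZStar.coreC 2 (Subgroup.zpowers u) := by
    have key : ∀ (C : Subgroup G) (_ : C = Subgroup.centralizer ({u} : Set G)) (h : r ∈ C),
        (⟨r, h⟩ : C) ∈ pPrimeCore 2 C := by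
      rintro C rfl h
      exact mem_pPrimeCore_of_odd hP hu (by rwa [← Subgroup.orderOf_coe])
    exact ⟨⟨r, ZStar.mem_centralizer_zpowers_iff.2 hc⟩,
      key _ (HeightZero.centralizer_zpowers_eq u) _, rfl⟩
  rw [← hur, ZStar.apply_mul_eq_apply hM ⟨k, hk⟩ hmem hχ]
  exact Chars.eq_of_isConj (Chars.isClassFunction_coe χ) (hone u z hu hz)

theorem value_int {z : G} (hz : orderOf z = 2) (χ : IrrCharacter G) :
    ∃ n : ℤ, (χ : G → ℂ) z = n :=
  let ⟨n, hn, _⟩ := Cfsg.Agent.S0944.result χ z hz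
  ⟨n, hn⟩

open scoped Classical in
/-- The indicator identity. -/
theorem sum_block_mul {P : Sylow 2 G} (hM : IsPModular 2 M) (hP : IsKleinFour (P : Subgroup G))
    (hone : ∀ s t : G, orderOf s = 2 → orderOf t = 2 → IsConj s t) {z : G} (hz : orderOf z = 2)
    (g : G) :
    ∑ χ ∈ (principalBlock M G).toFinite.toFinset, (χ : G → ℂ) z * (χ : G → ℂ) g =
      if 2 ∣ orderOf g then 4 else 0 := by
  haveI : Fact (Nat.Prime 2) := ⟨Nat.prime_two⟩
  haveI := isMaximal_of_isPModular hM
  haveI := Fintype.ofFinite G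
  have hreal : ∀ χ : IrrCharacter G, starRingEnd ℂ ((χ : G → ℂ) z) = (χ : G → ℂ) z := fun χ => by
    obtain ⟨n, hn⟩ := value_int hz χ
    rw [hn, map_intCast]
  split_ifs with hg
  · obtain ⟨U, hU, hzU⟩ := exists_sylow_mem hP ⟨1, by rw [hz, pow_one]⟩
    have hz1 : z ≠ 1 := fun h => by rw [h, orderOf_one] at hz; omega
    have h := (Cfsg.Agent.S0947.result 2 M hM z ⟨1, by rw [hz, pow_one]⟩ hz1 1
      (by rw [orderOf_one]; norm_num)).2 (index_pPrimeCore_centralizer U hU hzU hz1)
    have hfac : (Nat.card (Subgroup.centralizer ({z} : Set G))).factorization 2 = 2 := by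
      have h1 := (U.subtype (le_centralizer hU hzU)).card_eq_multiplicity
      rw [Sylow.coe_subtype,
        Nat.card_congr (Subgroup.subgroupOfEquivOfLe (le_centralizer hU hzU)).toEquiv,
        hU.card_four] at h1
      exact Nat.pow_right_injective le_rfl (by simpa using h1.symm)
    rw [hfac, finsum_block_eq_sum] at h
    simp only [OneMemClass.coe_one, mul_one] at h
    have h' : ∑ χ ∈ (principalBlock M G).toFinite.toFinset, ((‖(χ : G → ℂ) z‖ ^ 2 : ℝ) : ℂ) = 4 := by
      rw [← Complex.ofReal_sum, h]; norm_num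
    rw [← h']
    refine Finset.sum_congr rfl fun χ hχ => ?_
    rw [apply_eq_of_isPPart hM hP hone hz ((Set.Finite.mem_toFinset _).1 hχ) hg,
      ← Complex.normSq_eq_norm_sq, ← Complex.mul_conj, hreal]
  · have h := finsum_block_regular_mul_conj_singular hM (isPBlock_principalBlock (M := M) (G := G))
      (x := g) (y := z) hg (dvd_of_eq hz.symm)
    rw [finsum_block_eq_sum] at h
    rw [← h]
    exact Finset.sum_congr rfl fun χ _ => by rw [hreal, mul_comm]

end CfsgLib.KleinFourBlock
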